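import Mathlib.RingTheory.Idempotents
import Mathlib.RingTheory.Artinian.Module
import Mathlib.FieldTheory.IsAlgClosed.Basic
import Mathlib.LinearAlgebra.FreeModule.Finite.Matrix
import Mathlib.RingTheory.Nilpotent.Lemmas
import Mathlib.LinearAlgebra.Dual.Lemmas
import Mathlib.RingTheory.Derivation.Basic
import Mathlib.RingTheory.Noetherian.Nilpotent

/-!
# Finite algebras over an algebraically closed field
-/

set_option autoImplicit false

universe u v

namespace FinAlgLib

variable (k : Type u) [Field k] [IsAlgClosed k] (A : Type v) [CommRing A] [Algebra k A]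
  [Module.Finite k A]

/-- Evaluation at the rational points. -/
noncomputable def ev : A →ₐ[k] ((A →ₐ[k] k) → k) := AlgHom.pi (R := k) (fun f : A →ₐ[k] k => f)

variable {k A}

omit [IsAlgClosed k] [Module.Finite k A] in
theorem ev_apply (a : A) (f : A →ₐ[k] k) : ev k A a f = f a := rfl

omit [IsAlgClosed k] in
theorem ev_surjective : Function.Surjective (ev k A) := by
  classical
  have := Fintype.ofFinite (A →ₐ[k] k)
  rw [← AlgHom.coe_toLinearMap, ← LinearMap.range_eq_top]
  by_contra hne
  obtain ⟨φ, hφ0, hφ⟩ := Submodule.exists_le_ker_of_lt_top _ (lt_top_iff_ne_top.2 hne)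
  have hli : LinearIndependent k (AlgHom.toLinearMap : (A →ₐ[k] k) → A →ₗ[k] k) :=
    linearIndependent_algHom_toLinearMap k A k
  rw [Fintype.linearIndependent_iff] at hli
  refine hφ0 ((Pi.basisFun k (A →ₐ[k] k)).ext fun g => ?_)
  rw [LinearMap.zero_apply, Pi.basisFun_apply]
  refine hli (fun g => φ (Pi.single g 1)) (LinearMap.ext fun a => ?_) g
  have h1 : φ (ev k A a) = 0 := hφ ⟨a, rfl⟩
  rw [← Finset.univ_sum_single (ev k A a), map_sum] at h1
  rw [LinearMap.sum_apply, LinearMap.zero_apply, ← h1]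
  refine Finset.sum_congr rfl fun g _ => ?_
  rw [show Pi.single g (ev k A a g) = ev k A a g • (Pi.single g 1 : (A →ₐ[k] k) → k) by
    rw [← Pi.single_smul', smul_eq_mul, mul_one], map_smul, LinearMap.smul_apply, smul_eq_mul, smul_eq_mul,
    mul_comm]
  rfl

theorem ker_ev : RingHom.ker (ev k A) = nilradical A := by
  refine le_antisymm (fun x hx => ?_) (fun x hx => ?_)
  · rw [mem_nilradical, nilpotent_iff_mem_prime]
    intro P hP
    have : Algebra.IsIntegral k (A ⧸ P) := Algebra.IsIntegral.of_finite k _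
    have hb := IsAlgClosed.algebraMap_bijective_of_isIntegral (k := k) (K := A ⧸ P)
    let e : (A ⧸ P) ≃ₐ[k] k := (AlgEquiv.ofBijective (Algebra.ofId k (A ⧸ P)) hb).symm
    have h1 : e (Ideal.Quotient.mk P x) = 0 :=
      congrFun (RingHom.mem_ker.1 hx) ((e.toAlgHom).comp (Ideal.Quotient.mkₐ k P))
    exact Ideal.Quotient.eq_zero_iff_mem.1 ((map_eq_zero_iff e e.injective).1 h1)
  · obtain ⟨n, hn⟩ := mem_nilradical.1 hx
    refine RingHom.mem_ker.2 (funext fun f => eq_zero_of_pow_eq_zero (n := n) ?_)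
    rw [ev_apply, ← map_pow, hn, map_zero]

theorem isNilpotent_of_ev_eq_zero {x : A} (hx : ev k A x = 0) : IsNilpotent x :=
  mem_nilradical.1 (ker_ev (k := k).le (RingHom.mem_ker.2 hx))

theorem exists_section : ∃ s : ((A →ₐ[k] k) → k) →ₐ[k] A, ∀ x, ev k A (s x) = x := by
  classical
  have := Fintype.ofFinite (A →ₐ[k] k)
  obtain ⟨e, he, hev⟩ := CompleteOrthogonalIdempotents.lift_of_isNilpotent_ker (ev k A).toRingHom
    (fun x hx => isNilpotent_of_ev_eq_zero (RingHom.mem_ker.1 hx))
    (CompleteOrthogonalIdempotents.single fun _ : A →ₐ[k] k => k) (fun i => ev_surjective _)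
  let L : ((A →ₐ[k] k) → k) →ₗ[k] A :=
    ∑ f, (LinearMap.toSpanSingleton k A (e f)).comp (LinearMap.proj f)
  have hL : ∀ x, L x = ∑ f, x f • e f := fun x => by simp [L]
  refine ⟨AlgHom.ofLinearMap L ?_ ?_, fun x => ?_⟩
  · rw [hL]
    simpa using he.complete
  · intro x y
    rw [hL, hL, hL, Finset.sum_mul_sum]
    refine Finset.sum_congr rfl fun f _ => ?_
    rw [Finset.sum_eq_single f]
    · rw [smul_mul_smul_comm, (he.idem f).eq, Pi.mul_apply]
    · intro g _ hg
      rw [smul_mul_smul_comm, he.ortho hg.symm, smul_zero]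
    · exact fun h => absurd (Finset.mem_univ f) h
  · show ev k A (L x) = x
    rw [hL, map_sum]
    conv_rhs => rw [← Finset.univ_sum_single x]
    refine Finset.sum_congr rfl fun f _ => ?_
    rw [map_smul, show ev k A (e f) = Pi.single f 1 from congrFun hev f, ← Pi.single_smul', smul_eq_mul, mul_one]

/-- Idempotents with the same values agree. -/
theorem idem_eq_of_ev_eq {e e' : A} (he : IsIdempotentElem e) (he' : IsIdempotentElem e')
    (h : ev k A e = ev k A e') : e = e' :=
  eq_of_isNilpotent_sub_of_isIdempotentElem he he'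
    (isNilpotent_of_ev_eq_zero (k := k) (by rw [map_sub, h, sub_self]))

theorem section_unique {s s' : ((A →ₐ[k] k) → k) →ₐ[k] A} (hs : ∀ x, ev k A (s x) = x)
    (hs' : ∀ x, ev k A (s' x) = x) : s = s' := by
  classical
  have := Fintype.ofFinite (A →ₐ[k] k)
  have hsingle : ∀ f, s (Pi.single f 1) = s' (Pi.single f 1) := fun f =>
    idem_eq_of_ev_eq (k := k) (((CompleteOrthogonalIdempotents.single fun _ : A →ₐ[k] k => k).idem f).map s)
      (((CompleteOrthogonalIdempotents.single fun _ : A →ₐ[k] k => k).idem f).map s') (by rw [hs, hs'])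
  refine AlgHom.ext fun x => ?_
  rw [← Finset.univ_sum_single x, map_sum, map_sum]
  refine Finset.sum_congr rfl fun f _ => ?_
  rw [show Pi.single f (x f) = x f • (Pi.single f 1 : (A →ₐ[k] k) → k) by
    rw [← Pi.single_smul', smul_eq_mul, mul_one], map_smul, map_smul, hsingle]

/-- In a reduced algebra, evaluation is bijective. -/
theorem ev_bijective [IsReduced A] : Function.Bijective (ev k A) := by
  refine ⟨fun x y hxy => ?_, ev_surjective⟩
  exact sub_eq_zero.1 (isNilpotent_of_ev_eq_zero (k := k) (by rw [map_sub, hxy, sub_self])).eq_zero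

/-- Reduced subalgebras are in the image of the section. -/
theorem le_range_section {s : ((A →ₐ[k] k) → k) →ₐ[k] A} (hs : ∀ x, ev k A (s x) = x)
    (C : Subalgebra k A) [IsReduced C] : C ≤ s.range := by
  classical
  have : Module.Finite k C := Module.Finite.of_injective C.val.toLinearMap Subtype.val_injective
  have := Fintype.ofFinite (C →ₐ[k] k)
  obtain ⟨t, ht⟩ := exists_section (k := k) (A := C)
  intro c hc
  have hct : (⟨c, hc⟩ : C) = t (ev k C ⟨c, hc⟩) := ev_bijective.1 (ht _).symm
  have hmem : ∀ f, (t (Pi.single f 1) : A) ∈ s.range := fun f => by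
    have hid : IsIdempotentElem (t (Pi.single f 1) : A) :=
      ((CompleteOrthogonalIdempotents.single fun _ : C →ₐ[k] k => k).idem f).map (C.val.comp t)
    refine ⟨ev k A (t (Pi.single f 1) : A), ?_⟩
    exact idem_eq_of_ev_eq (k := k) ((hid.map (ev k A)).map s) hid (hs _)
  rw [show c = ((⟨c, hc⟩ : C) : A) from rfl, hct, ← Finset.univ_sum_single (ev k C ⟨c, hc⟩), map_sum]
  rw [AddSubmonoidClass.coe_finset_sum]
  refine Subalgebra.sum_mem _ fun f _ => ?_
  rw [show Pi.single f (ev k C ⟨c, hc⟩ f) = ev k C ⟨c, hc⟩ f • (Pi.single f 1 : (C →ₐ[k] k) → k) by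
    rw [← Pi.single_smul', smul_eq_mul, mul_one], map_smul, SetLike.val_smul]
  exact Subalgebra.smul_mem _ (hmem f) _

theorem isReduced_pi_range {s : ((A →ₐ[k] k) → k) →ₐ[k] A} (hs : ∀ x, ev k A (s x) = x) :
    IsReduced s.range := by
  refine ⟨fun x hx => ?_⟩
  obtain ⟨y, hy⟩ := x.2
  obtain ⟨n, hn⟩ := hx
  have h1 : s (y ^ n) = 0 := by
    rw [map_pow, show s y = (x : A) from hy, ← SubmonoidClass.coe_pow, hn, ZeroMemClass.coe_zero]
  have h2 : y ^ n = 0 := by rw [← hs (y ^ n), h1, map_zero]
  have h3 : y = 0 := IsNilpotent.eq_zero ⟨n, h2⟩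
  refine Subtype.ext ?_
  rw [← hy, h3]
  exact map_zero s

theorem derivation_eq_zero [IsReduced A] (D : Derivation k A A) : D = 0 := by
  classical
  have := Fintype.ofFinite (A →ₐ[k] k)
  obtain ⟨s, hs⟩ := exists_section (k := k) (A := A)
  refine Derivation.ext fun a => ?_
  rw [show a = s (ev k A a) from ev_bijective.1 (hs _).symm, ← Finset.univ_sum_single (ev k A a), map_sum, map_sum]
  rw [map_sum]
  refine Finset.sum_congr rfl fun f _ => ?_
  rw [show Pi.single f (ev k A a f) = ev k A a f • (Pi.single f 1 : (A →ₐ[k] k) → k) by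
    rw [← Pi.single_smul', smul_eq_mul, mul_one], map_smul, Derivation.map_smul, Derivation.map_smul]
  congr 1
  set e := s (Pi.single f 1) with hedef
  have hid : IsIdempotentElem e := ((CompleteOrthogonalIdempotents.single fun _ : A →ₐ[k] k => k).idem f).map s
  have h := D.leibniz e e
  rw [hid.eq, smul_eq_mul] at h
  have h2 : e * D e = 0 := by
    have h3 := congrArg (e * ·) h
    simp only [mul_add, ← mul_assoc, hid.eq] at h3
    exact left_eq_add.1 h3
  rw [h, h2, add_zero]
  rfl

theorem isReduced_of_subsingleton_derivation [Subsingleton (Derivation k A A)] : IsReduced A := by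
  classical
  have : IsArtinianRing A := isArtinian_of_tower k inferInstance
  have : IsNoetherianRing A := IsNoetherianRing.of_finite k A
  have := Fintype.ofFinite (A →ₐ[k] k)
  obtain ⟨s, hs⟩ := exists_section (k := k) (A := A)
  set N := nilradical A with hNdef
  have hmemN : ∀ a, a - s (ev k A a) ∈ N := fun a =>
    mem_nilradical.2 (isNilpotent_of_ev_eq_zero (k := k) (by rw [map_sub, hs, sub_self]))
  by_contra hred
  have hN : N ≠ ⊥ := fun h => hred (nilradical_eq_bot_iff.1 (by rw [← hNdef, h]))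
  have hnilp : IsNilpotent N := IsNoetherianRing.isNilpotent_nilradical A
  -- a nonzero element killed by the nilradical
  obtain ⟨t₀, ht₀m, ht₀, ht₀N⟩ : ∃ t ∈ N, t ≠ 0 ∧ ∀ x ∈ N, x * t = 0 := by
    by_contra hcon
    push Not at hcon
    obtain ⟨n, hn⟩ := hnilp
    obtain ⟨z, hz, hz0⟩ := Submodule.exists_mem_ne_zero_of_ne_bot hN
    have key : ∀ j, ∃ y ∈ N ^ j, y ∈ N ∧ y ≠ 0 := by
      intro j
      induction j with
      | zero => exact ⟨z, by simp, hz, hz0⟩
      | succ j ih =>
        obtain ⟨y, hy, hyN, hy0⟩ := ih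
        obtain ⟨x, hx, hxy⟩ := hcon y hyN hy0
        exact ⟨x * y, by rw [pow_succ']; exact Ideal.mul_mem_mul hx hy, Ideal.mul_mem_left _ _ hyN, hxy⟩
    obtain ⟨y, hy, -, hy0⟩ := key n
    rw [hn] at hy
    exact hy0 (by simpa using hy)
  obtain ⟨f, hf⟩ : ∃ f, s (Pi.single f 1) * t₀ ≠ 0 := by
    by_contra h
    push Not at h
    refine ht₀ ?_
    rw [← one_mul t₀, ← map_one s, ← Finset.univ_sum_single (1 : (A →ₐ[k] k) → k), map_sum, Finset.sum_mul]
    exact Finset.sum_eq_zero fun g _ => h g
  set e := s (Pi.single f 1) with hedef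
  have hid : e * e = e :=
    (((CompleteOrthogonalIdempotents.single fun _ : A →ₐ[k] k => k).idem f).map s).eq
  set t := e * t₀ with htdef
  have hse : ∀ x, s x * e = x f • e := by
    intro x
    rw [hedef, ← map_mul, ← map_smul]
    congr 1
    ext g
    rcases eq_or_ne g f with rfl | hg
    · simp
    · simp [hg]
  have hact : ∀ a, a * t = f a • t := fun a => by
    have h1 : (a - s (ev k A a)) * t = 0 := by
      rw [htdef, mul_left_comm, ht₀N _ (hmemN a), mul_zero]
    rw [sub_mul, sub_eq_zero] at h1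
    rw [h1, htdef, ← mul_assoc, hse, smul_mul_assoc, ev_apply]
  let ρ : A →ₗ[k] A := (LinearMap.mulLeft k e).comp (LinearMap.id - s.toLinearMap.comp (ev k A).toLinearMap)
  have hρ : ∀ a, ρ a = e * (a - s (ev k A a)) := fun a => rfl
  let V : Submodule k A := (N * N).restrictScalars k
  obtain ⟨n₀, hn₀, hn₀V⟩ : ∃ n₀ ∈ N, ρ n₀ ∉ V := by
    by_contra h
    push Not at h
    have hle : N * Ideal.span {e} ≤ (N * Ideal.span {e}) * N := by
      rw [mul_comm N, Ideal.span_singleton_mul_le_iff]
      intro x hx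
      have hx0 : ev k A x = 0 := RingHom.mem_ker.1 (ker_ev.ge hx)
      have h1 : e * x ∈ N * N := by
        have := h x hx
        rw [hρ, hx0, map_zero, sub_zero] at this
        exact this
      rw [mul_assoc (Ideal.span {e})]
      have h2 := Ideal.mul_mem_mul (Ideal.mem_span_singleton_self e) h1
      rwa [show e * (e * x) = e * x by rw [← mul_assoc, hid]] at h2
    have hzero : ∀ j, N * Ideal.span {e} ≤ (N * Ideal.span {e}) * N ^ j := by
      intro j
      induction j with
      | zero => rw [pow_zero, mul_one]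
      | succ j ih =>
        refine hle.trans ((Ideal.mul_mono_left ih).trans ?_)
        rw [mul_assoc, ← pow_succ]
    obtain ⟨n, hn⟩ := hnilp
    have h2 := hzero n
    rw [hn, mul_zero] at h2
    exact hf (by simpa [htdef, mul_comm e] using h2 (Ideal.mul_mem_mul ht₀m (Ideal.mem_span_singleton_self e)))
  have hns : ρ n₀ ∉ V := hn₀V
  obtain ⟨φ, hφ, hφV⟩ := Submodule.exists_dual_map_eq_bot_of_notMem hns inferInstance
  let D : Derivation k A A := Derivation.mk' ((LinearMap.toSpanSingleton k A t).comp (φ.comp ρ)) (fun a b => by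
    show φ (ρ (a * b)) • t = a * (φ (ρ b) • t) + b * (φ (ρ a) • t)
    rw [mul_smul_comm, mul_smul_comm, hact, hact, smul_smul, smul_smul, ← add_smul]
    congr 1
    have hdiff : ρ (a * b) - (f a • ρ b + f b • ρ a) ∈ V := by
      have h1 : ρ (a * b) - (f a • ρ b + f b • ρ a) = e * ((a - s (ev k A a)) * (b - s (ev k A b))) := by
        have ea := hse (ev k A a)
        have eb := hse (ev k A b)
        rw [ev_apply, Algebra.smul_def] at ea eb
        rw [hρ, hρ, hρ, map_mul, map_mul, Algebra.smul_def, Algebra.smul_def]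
        linear_combination (b - s (ev k A b)) * ea + (a - s (ev k A a)) * eb
      rw [h1]
      exact Ideal.mul_mem_left _ e (Ideal.mul_mem_mul (hmemN a) (hmemN b))
    have h2 : φ (ρ (a * b) - (f a • ρ b + f b • ρ a)) = 0 := by
      have := Submodule.mem_map_of_mem (f := φ) hdiff
      rwa [hφV, Submodule.mem_bot] at this
    rw [map_sub, map_add, map_smul, map_smul, smul_eq_mul, smul_eq_mul, sub_eq_zero] at h2
    rw [h2]; ring)
  have h0 : D n₀ = 0 := by rw [Subsingleton.elim D 0]; rfl
  have h1 : φ (ρ n₀) • t = 0 := h0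
  rcases smul_eq_zero.1 h1 with h | h
  · exact hφ h
  · exact hf h

end FinAlgLib
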